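import Groth.Agent.Etalg.EppVal
import Mathlib.FieldTheory.Relrank
import Mathlib.FieldTheory.SeparableClosure

/-!
# The context for the refutation of S7162 (job 600)

Everything happens inside one algebraically closed ultrametric normed field `Ω` of characteristic 2, algebraic
over a subfield `K` (complete, discretely valued with uniformizer `t` and residue field `k0 = F_2(s)`).

`kk` = separable closure of `k0` in `Ω`, `FF = K · kk` = maximal unramified extension of `K`,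
`s1 = s + r t`, `s2 = s + (r + 1) t` with `r ∈ F_4 ∖ F_2`, `MM a = FF(a^(1/2^∞))`, `z^2 + z = s/t^2`,
`LL = MM s1 (z)`.
-/

set_option autoImplicit false

namespace Groth.Agent.EtAlg.K405

open Groth.Agent.Etalg.EppFrame Polynomial

/-- the data -/
structure Ctx (Ω : Type) [NormedField Ω] where
  /-- the complete discretely valued base field -/
  K : Subfield Ω
  /-- its coefficient field `F_2(s)` -/
  k0 : Subfield Ω
  s : Ω
  t : Ω
  r : Ω
  z : Ω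
  k0_le : k0 ≤ K
  s_mem : s ∈ k0
  t_mem : t ∈ K
  disc : Disc K t
  k0_norm : ∀ x ∈ k0, x ≠ 0 → ‖x‖ = 1
  res : ∀ x ∈ K, ‖x‖ ≤ 1 → ∃ a ∈ k0, ‖x - a‖ < 1
  s_not_sq : ∀ a ∈ k0, a ^ 2 ≠ s
  k0_sq : ∀ x ∈ k0, ∃ a ∈ k0, ∃ b ∈ k0, x = a ^ 2 + s * b ^ 2
  K_sq : ∀ x ∈ K, ∃ a ∈ K, ∃ b ∈ K, ∃ c ∈ K, ∃ d ∈ K, x = a ^ 2 + s * b ^ 2 + t * c ^ 2 + s * t * d ^ 2
  alg : ∀ x : Ω, IsAlgebraic K x
  inv : ∀ (σ : Ω ≃ₐ[K] Ω) (x : Ω), ‖σ x‖ = ‖x‖
  r_eq : r ^ 2 + r + 1 = 0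
  r_not_mem : r ∉ K
  z_eq : z ^ 2 + z = s / t ^ 2

/-- every element of `N` is `∑ b i * (a i) ^ 2` with `a i ∈ N` -/
def SqSpan {Ω : Type} [Field Ω] {ι : Type} [Fintype ι] (N : Subfield Ω) (b : ι → Ω) : Prop :=
  ∀ x ∈ N, ∃ a : ι → Ω, (∀ i, a i ∈ N) ∧ x = ∑ i, b i * a i ^ 2

/-- the residue field of `N` is the one of `Ω` -/
def ResFull {Ω : Type} [NormedField Ω] (N : Subfield Ω) : Prop := ∀ x : Ω, ‖x‖ ≤ 1 → ∃ y ∈ N, ‖x - y‖ < 1

namespace Ctx

variable {Ω : Type} [NormedField Ω] (C : Ctx Ω)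

/-- the separable closure of `k0` in `Ω` -/
noncomputable def kk : Subfield Ω := (separableClosure C.k0 Ω).toSubfield

/-- the algebraic closure of `k0` in `Ω` -/
noncomputable def kb : Subfield Ω := (algebraicClosure C.k0 Ω).toSubfield

/-- the maximal unramified extension of `K` in `Ω` -/
noncomputable def FF : Subfield Ω := C.K ⊔ C.kk

/-- `s + r t` -/
def s1 : Ω := C.s + C.r * C.t

/-- `s + (r + 1) t` -/
def s2 : Ω := C.s + (C.r + 1) * C.t

/-- `FF(a^(1/2^∞))` -/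
noncomputable def MM (a : Ω) : Subfield Ω := C.FF ⊔ Subfield.closure {y : Ω | ∃ m : ℕ, y ^ 2 ^ m = a}

/-- `MM s1 (z)` -/
noncomputable def LL : Subfield Ω := C.MM C.s1 ⊔ Subfield.closure {C.z}

theorem mem_kk {x : Ω} : x ∈ C.kk ↔ IsSeparable C.k0 x := mem_separableClosure_iff

theorem mem_kb {x : Ω} : x ∈ C.kb ↔ IsAlgebraic C.k0 x := mem_algebraicClosure_iff

theorem kk_le_kb : C.kk ≤ C.kb := fun _ hx => C.mem_kb.2 (C.mem_kk.1 hx).isIntegral.isAlgebraic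

theorem K_le_FF : C.K ≤ C.FF := le_sup_left

theorem kk_le_FF : C.kk ≤ C.FF := le_sup_right

theorem FF_le_MM (a : Ω) : C.FF ≤ C.MM a := le_sup_left

theorem MM_le_LL : C.MM C.s1 ≤ C.LL := le_sup_left

theorem k0_le_kk : C.k0 ≤ C.kk := fun x hx => C.mem_kk.2 (isSeparable_algebraMap (⟨x, hx⟩ : C.k0))

theorem s_mem_K : C.s ∈ C.K := C.k0_le C.s_mem

theorem z_mem_LL : C.z ∈ C.LL := (le_sup_right : _ ≤ C.LL) (Subfield.subset_closure rfl)

end Ctx

end Groth.Agent.EtAlg.K405
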