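import Groth.Agent.EtAlg.K405.Ctx
import Groth.Agent.Etalg.EppWeak
import Groth.Prelude.Def_EtRam

/-!
PLAN FILE for job 600 (refutation of S7162); every theorem here is a node (sorried). Never import this file.
-/

set_option autoImplicit false

namespace Groth.Agent.EtAlg.K405.Plan

open Groth.Agent.Etalg.EppFrame Groth.Agent.Etalg.EppVal Polynomial IsLocalRing

/-! ### N1: the context exists -/

theorem N1_ctx : ∃ (Ω : Type) (_ : NormedField Ω) (_ : IsUltrametricDist Ω) (_ : IsAlgClosed Ω) (_ : CharP Ω 2),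
    Nonempty (Ctx Ω) := sorry

variable {Ω : Type} [NormedField Ω] [IsUltrametricDist Ω] [IsAlgClosed Ω] [CharP Ω 2] (C : Ctx Ω)

/-! ### N2: norms and residues of `Ω` -/

theorem N2a_norm_kb {x : Ω} (hx : x ∈ C.kb) (h0 : x ≠ 0) : ‖x‖ = 1 := sorry

theorem N2b_monic {x : Ω} (hx : ‖x‖ ≤ 1) :
    ∃ f : Polynomial Ω, f.Monic ∧ (∀ i, f.coeff i ∈ C.K ∧ ‖f.coeff i‖ ≤ 1) ∧ f.eval x = 0 := sorry

theorem N2c_res {x : Ω} (hx : ‖x‖ ≤ 1) : ∃ a ∈ C.kb, ‖x - a‖ < 1 := sorry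

/-! ### N3: Gauss norm -/

omit [IsAlgClosed Ω] [CharP Ω 2] in
theorem N3_gauss {N κ Λ : Subfield Ω} (hΛ : ∀ x ∈ Λ, x ≠ 0 → ‖x‖ = 1) (hκ : κ ≤ Λ)
    (hres : ∀ x ∈ N, ‖x‖ ≤ 1 → ∃ a ∈ κ, ‖x - a‖ < 1) {ι : Type} [Fintype ι] (e e' : ι → Ω)
    (he' : ∀ i, e' i ∈ Λ) (hli : LinearIndependent κ e') (he : ∀ i, ‖e i - e' i‖ < 1)
    (a : ι → Ω) (ha : ∀ i, a i ∈ N) (i : ι) : ‖a i‖ ≤ ‖∑ j, a j * e j‖ := sorry

omit [IsAlgClosed Ω] [CharP Ω 2] in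
theorem N3_norm_mem {N κ Λ : Subfield Ω} (hΛ : ∀ x ∈ Λ, x ≠ 0 → ‖x‖ = 1) (hκ : κ ≤ Λ)
    (hres : ∀ x ∈ N, ‖x‖ ≤ 1 → ∃ a ∈ κ, ‖x - a‖ < 1) {ι : Type} [Fintype ι] (e e' : ι → Ω)
    (he' : ∀ i, e' i ∈ Λ) (hli : LinearIndependent κ e') (he : ∀ i, ‖e i - e' i‖ < 1)
    (a : ι → Ω) (ha : ∀ i, a i ∈ N) : ∃ y ∈ N, ‖y‖ = ‖∑ j, a j * e j‖ := sorry

/-! ### N4: the field `FF` -/

theorem N4a_disc : Disc C.FF C.t := sorry

theorem N4b_res : ∀ x ∈ C.FF, ‖x‖ ≤ 1 → ∃ a ∈ C.kk, ‖x - a‖ < 1 := sorry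

theorem N4c_sep : ∀ x ∈ C.FF, IsSeparable C.K x := sorry

theorem N4d_map (σ : Ω ≃ₐ[C.K] Ω) : ∀ x ∈ C.FF, σ x ∈ C.FF := sorry

/-! ### N5: squares -/

omit [IsUltrametricDist Ω] [IsAlgClosed Ω] in
theorem N5a_sep {ι : Type} [Fintype ι] {N N' : Subfield Ω} (h : N ≤ N') (hsep : ∀ x ∈ N', IsSeparable N x)
    (b : ι → Ω) (hN : SqSpan N b) : SqSpan N' b := sorry

theorem N5b_kk : ∀ x ∈ C.kk, ∃ a ∈ C.kk, ∃ b ∈ C.kk, x = a ^ 2 + C.s * b ^ 2 := sorry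

theorem N5c_FF (a : Ω) (ha : a = C.s1 ∨ a = C.s2) : SqSpan C.FF ![1, a, C.t, a * C.t] := sorry

theorem N5d_ns : ∀ x ∈ C.kk, x ^ 2 ≠ C.s := sorry

/-! ### N6: independence of powers in characteristic two -/

omit [IsUltrametricDist Ω] [IsAlgClosed Ω] in
theorem N6_li (κ : Subfield Ω) {ω : Ω} (n : ℕ) (ha : ω ^ 2 ^ n ∈ κ) (hns : ∀ b ∈ κ, b ^ 2 ≠ ω ^ 2 ^ n) :
    LinearIndependent κ (fun j : Fin (2 ^ n) => ω ^ (j : ℕ)) := sorry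

/-! ### N7: the fields `MM s1`, `MM s2` -/

theorem N7a_disc (a : Ω) (ha : a = C.s1 ∨ a = C.s2) : Disc (C.MM a) C.t := sorry

theorem N7b_res (a : Ω) (ha : a = C.s1 ∨ a = C.s2) : ResFull (C.MM a) := sorry

theorem N7c_sq (a : Ω) (ha : a = C.s1 ∨ a = C.s2) : SqSpan (C.MM a) ![1, C.t] := sorry

theorem N7d_pi (a : Ω) (ha : a = C.s1 ∨ a = C.s2) : ∀ x ∈ C.MM a, ∃ m : ℕ, x ^ 2 ^ m ∈ C.FF := sorry

/-! ### N8: separable extensions of fields with full residue field are totally ramified -/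

theorem N8_sep {N N' : Subfield Ω} (hK : C.K ≤ N) (hN : N ≤ N') (hfin : N.relfinrank N' ≠ 0)
    (hsep : ∀ x ∈ N', IsSeparable N x) {π π' : Ω} (hπ : π ∈ N) (hd : Disc N π) (hπ' : π' ∈ N')
    (hd' : Disc N' π') {e : ℕ} (he : ‖π‖ = ‖π'‖ ^ e) (hres : ResFull N) : N.relfinrank N' ≤ e := sorry

/-- infinite separable algebraic extensions: finite as soon as the value group is discrete -/
theorem N8_fin {N N' : Subfield Ω} (hK : C.K ≤ N) (hN : N ≤ N')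
    (hsep : ∀ x ∈ N', IsSeparable N x) {π π' : Ω} (hπ : π ∈ N) (hd : Disc N π) (hπ' : π' ∈ N')
    (hd' : Disc N' π') (hres : ResFull N) : FinExt N N' := sorry

/-! ### N9: purely inseparable extensions of fields with `N = N^2 + τ N^2` -/

omit [IsUltrametricDist Ω] [IsAlgClosed Ω] in
theorem N9_insep {N N' : Subfield Ω} (hN : N ≤ N') (hfin : N.relfinrank N' ≠ 0)
    (hpi : ∀ x ∈ N', ∃ n : ℕ, x ^ 2 ^ n ∈ N) {τ : Ω} (hτ : τ ∈ N) (hsq : SqSpan N ![1, τ]) :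
    ∃ m : ℕ, N.relfinrank N' ≤ 2 ^ m ∧ ∀ x ∈ N, ∃ y ∈ N', y ^ 2 ^ m = x := sorry

/-! ### N10: no defect -/

theorem N10_defectless {N N' : Subfield Ω} (hK : C.K ≤ N) (hN : N ≤ N') (hfin : N.relfinrank N' ≠ 0)
    {π ϖ : Ω} (hπ : π ∈ N) (hd : Disc N π) (hϖ : ϖ ∈ N') (hd' : Disc N' ϖ) {e : ℕ} (he : ‖π‖ = ‖ϖ‖ ^ e)
    (hres : ResFull N) {τ : Ω} (hτ : τ ∈ N) (hsq : SqSpan N ![1, τ]) : N.relfinrank N' ≤ e := sorry

/-! ### N11: linear disjointness -/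

omit [IsUltrametricDist Ω] [IsAlgClosed Ω] in
theorem N11_ld {F E M : Subfield Ω} (hFE : F ≤ E) (hfin : F.relfinrank E ≠ 0) (η : ℕ → Ω) (h0 : η 0 ∈ F)
    (hη : ∀ m, η (m + 1) ^ 2 = η m) (hM : M = F ⊔ Subfield.closure (Set.range η)) (c : ℕ) (hc : η c ∈ E)
    (hc' : η (c + 1) ∉ E) : M.relfinrank (M ⊔ E) ≠ 0 ∧ F.relfinrank E ≤ 2 ^ c * M.relfinrank (M ⊔ E) := sorry

/-! ### N12: the fundamental inequality -/

omit [IsAlgClosed Ω] [CharP Ω 2] in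
theorem N12_ef {F E κ Λ : Subfield Ω} (hFE : F ≤ E) (hfin : F.relfinrank E ≠ 0) (hΛ : ∀ x ∈ Λ, x ≠ 0 → ‖x‖ = 1)
    (hκ : κ ≤ Λ) (hres : ∀ x ∈ F, ‖x‖ ≤ 1 → ∃ a ∈ κ, ‖x - a‖ < 1) {t ϖ w ω : Ω} (hd : Disc F t) (hϖ : ϖ ∈ E)
    (h0 : 0 < ‖ϖ‖) (h1 : ‖ϖ‖ < 1) {e n : ℕ} (he : ‖t‖ = ‖ϖ‖ ^ e) (hw : w ∈ E) (hω : ω ∈ Λ) (hwω : ‖w - ω‖ < 1)
    (hli : LinearIndependent κ (fun j : Fin n => ω ^ (j : ℕ))) : e * n ≤ F.relfinrank E := sorry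

/-! ### N13: the contradiction -/

theorem N13_main {E : Subfield Ω} (hE : C.FF ≤ E) (hfin : C.FF.relfinrank E ≠ 0) {ϖ : Ω} (hϖ : ϖ ∈ E)
    (h1 : Disc (C.MM C.s1 ⊔ E ⊔ Subfield.closure {C.z}) ϖ)
    (h2 : Disc (C.MM C.s2 ⊔ E ⊔ Subfield.closure {C.z}) ϖ) : False := sorry

/-! ### N14: what a weak solution over `K` gives -/

omit [IsUltrametricDist Ω] [IsAlgClosed Ω] [CharP Ω 2] in
theorem K_le_LL : C.K ≤ C.LL := (C.K_le_FF.trans (C.FF_le_MM _)).trans C.MM_le_LL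

theorem N14a {K₁ : Type} [Field K₁] [Algebra C.K K₁] [FiniteDimensional C.K K₁]
    (hw : letI : Algebra C.K C.LL := (Subfield.inclusion (K_le_LL C)).toAlgebra
      EtRam.IsWeakSolution (VA C.LL) C.K C.LL K₁)
    (σ : Ω ≃ₐ[C.K] Ω) (ι : K₁ →ₐ[C.K] Ω) :
    ∀ x ∈ C.LL.map (σ : Ω →+* Ω) ⊔ ι.fieldRange.toSubfield, ‖x‖ < 1 → ∃ y : K₁, ‖ι y‖ < 1 ∧ ‖x‖ ≤ ‖ι y‖ := sorry

theorem N14b : ∃ τ : Ω ≃ₐ[C.K] Ω, C.LL.map (τ : Ω →+* Ω) = C.MM C.s2 ⊔ Subfield.closure {C.z} := sorry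

theorem N14_weak {K₁ : Type} [Field K₁] [Algebra C.K K₁] [FiniteDimensional C.K K₁]
    (hw : letI : Algebra C.K C.LL := (Subfield.inclusion (K_le_LL C)).toAlgebra
      EtRam.IsWeakSolution (VA C.LL) C.K C.LL K₁) :
    ∃ (E : Subfield Ω) (ϖ : Ω), C.FF ≤ E ∧ C.FF.relfinrank E ≠ 0 ∧ ϖ ∈ E ∧
      Disc (C.MM C.s1 ⊔ E ⊔ Subfield.closure {C.z}) ϖ ∧ Disc (C.MM C.s2 ⊔ E ⊔ Subfield.closure {C.z}) ϖ := sorry

/-! ### N15: a finite normal extension for `K' ≤ L'` -/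

theorem N15_normal {K' L' : Subfield Ω} (hFK : C.FF ≤ K') (hKL : K' ≤ L') (hL : C.LL ≤ L')
    (hsep : ∀ x ∈ L', IsSeparable C.LL x) {ϖ : Ω} (hϖ : ϖ ∈ L') (hd : Disc L' ϖ) :
    ∃ K₁ : Subfield Ω, FinExt K' K₁ ∧ NormalIn K' K₁ ∧ NormLe K₁ (L' ⊔ K₁) := sorry

/-! ### N16: a subfield with separably closed residue field contains `FF` -/

theorem N16_FF_le {K' : Subfield Ω} (hK : C.K ≤ K') (hres : ∀ θ ∈ C.kk, ∃ a ∈ K', ‖θ - a‖ < 1) : C.FF ≤ K' := sorry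

/-! ### N17: every admissible pair has a weak solution -/

theorem N17_exists_weak {A' B' K' L' : Type} [CommRing A'] [IsDomain A'] [IsDiscreteValuationRing A']
    [CommRing B'] [IsDomain B'] [IsDiscreteValuationRing B'] [Field K'] [Field L'] [Algebra A' K']
    [IsFractionRing A' K'] [Algebra B' L'] [IsFractionRing B' L'] [Algebra K' L']
    (iL : C.LL →+* L') (iK : C.K →+* K')
    (hcomm : ∀ x : C.K, algebraMap K' L' (iK x) = iL (Subfield.inclusion (K_le_LL C) x))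
    (hsepL : ∀ x : L', letI := iL.toAlgebra; IsSeparable C.LL x)
    (hB : ∀ x : C.LL, ‖(x : Ω)‖ ≤ 1 → ∃ b : B', algebraMap B' L' b = iL x)
    (ht : ∃ b ∈ maximalIdeal B', algebraMap B' L' b = iL ⟨C.t, K_le_LL C C.t_mem⟩)
    (hA : ∀ x : C.K, ‖(x : Ω)‖ ≤ 1 → ∃ a : A', algebraMap A' K' a = iK x)
    (hAB : ∀ a : A', ∃ b : B', algebraMap B' L' b = algebraMap K' L' (algebraMap A' K' a))
    (hABm : ∀ a ∈ maximalIdeal A', ∃ b ∈ maximalIdeal B', algebraMap B' L' b = algebraMap K' L' (algebraMap A' K' a))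
    (hsc : IsSepClosed (ResidueField A')) :
    ∃ (K₁ : Type) (_ : Field K₁) (_ : Algebra K' K₁), FiniteDimensional K' K₁ ∧
      EtRam.IsWeakSolution B' K' L' K₁ := sorry

/-! ### N18: the two discrete valuation rings -/

theorem N18_disc : ∃ ϖ ∈ C.LL, Disc C.LL ϖ := sorry

end Groth.Agent.EtAlg.K405.Plan
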