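import Groth.Agent.Refuted.K727.Stmt
import Groth.Agent.EtAlg.K373.RefN1
import Groth.Agent.EtAlg.K416.RefN2
import Groth.Agent.EtAlg.K289.RefN13
import Groth.Agent.EtAlg.K861.RefN14
import Groth.Agent.EtAlg.K235.RefN15
import Groth.Agent.EtAlg.K235.RefN16
import Groth.Agent.EtAlg.K235.RefN18
import Groth.Agent.EtAlg.K361.RefN17a
import Groth.Agent.Etalg.EppUp

/-!
# S7162 is false as written: second, independent Lean proof

The first one is `Groth.Agent.Refuted.S7162.refuted` (helper727 and others).  This one follows the plan of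
`Groth/Agent/EtAlg/K405/Plan.lean`; nodes by helper373 (N1), helper416 (N2), helper589 (N3, N12), helper956 (N4),
helper261 (N5, N7c), helper315 (N6, N11), helper750 (N7), helper458 (N8), helper119 (N9, N10), helper289 (N13),
helper861 (N14), helper235 (N15, N16, N18), helper361 (N17).

Everything happens in an algebraic closure `Ω` of `K = F_2(s)((t))` with its norm.  `FF` = maximal unramified
extension of `K`, `r ∈ F_4 ∖ F_2`, `s1 = s + r t`, `s2 = s + (r + 1) t`, `MM_i = FF(s_i^(1/2^∞))`,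
`z^2 + z = s / t^2`, `LL = MM_1(z)`; `A`, `B` = the valuation rings of `K`, `LL`.

* Every admissible pair `(A', B')` has a weak solution: `LL / FF` is normal, discretely valued, with algebraically
  closed residue field, and `K' ⊇ FF`.
* A weak solution `K₁ / K` gives `E = FF K₁` with a uniformizer of `E` generating the value groups of `MM_1 E(z)`
  and `MM_2 E(z)`; then `z ∈ E`, `[E : FF] ≤ 2^c e` with `c` maximal such that `s_1^(1/2^c), s_2^(1/2^c) ∈ E`,
  while `t^(1/2^c), s^(1/2^c), (z t)^(1/2^c) ∈ E` force `e 2^(c+1) ≤ [E : FF]`.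
-/

set_option autoImplicit false

namespace Groth.Agent.EtAlg.K405.Refute

open Groth.Agent.EtAlg.K405 Groth.Agent.Etalg.EppFrame Groth.Agent.Etalg.EppVal Groth.Agent.Etalg IsLocalRing
open Groth.Agent.Refuted.S7162

variable {Ω : Type} [NormedField Ω] [IsUltrametricDist Ω] [IsAlgClosed Ω] [CharP Ω 2]

theorem K_le_LL (C : Ctx Ω) : C.K ≤ C.LL := (C.K_le_FF.trans (C.FF_le_MM _)).trans C.MM_le_LL

/-- every admissible pair over `(VA K, VA LL)` has a weak solution -/
theorem exists_weak (C : Ctx Ω)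
    [Algebra (VA C.K) (VA C.LL)]
    (hAB : ∀ a : VA C.K, (((algebraMap (VA C.K) (VA C.LL) a : VA C.LL) : C.LL) : Ω) = ((a : C.K) : Ω))
    (A' B' K' L' : Type) [CommRing A'] [IsDomain A'] [IsDiscreteValuationRing A']
    [CommRing B'] [IsDomain B'] [IsDiscreteValuationRing B'] [Field K'] [Field L']
    [Algebra (VA C.K) A'] [Algebra (VA C.LL) B'] [Algebra A' B'] [Algebra (VA C.K) B']
    [IsScalarTower (VA C.K) (VA C.LL) B'] [IsScalarTower (VA C.K) A' B']
    [Algebra A' K'] [IsFractionRing A' K'] [Algebra B' L'] [IsFractionRing B' L']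
    [Algebra K' L'] [Algebra A' L'] [IsScalarTower A' K' L'] [IsScalarTower A' B' L']
    [Algebra C.K K'] [Algebra (VA C.K) K'] [IsScalarTower (VA C.K) C.K K'] [IsScalarTower (VA C.K) A' K']
    [Algebra C.LL L'] [Algebra (VA C.LL) L'] [IsScalarTower (VA C.LL) C.LL L'] [IsScalarTower (VA C.LL) B' L']
    [IsLocalHom (algebraMap A' B')]
    (hsepL : Algebra.IsSeparable C.LL L') (hsc : IsSepClosed (ResidueField A')) :
    ∃ (K₁ : Type) (_ : Field K₁) (_ : Algebra K' K₁), FiniteDimensional K' K₁ ∧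
      EtRam.IsWeakSolution B' K' L' K₁ := by
  have hA' : ∀ a : A', algebraMap K' L' (algebraMap A' K' a) = algebraMap B' L' (algebraMap A' B' a) := fun a => by
    rw [← IsScalarTower.algebraMap_apply A' K' L', ← IsScalarTower.algebraMap_apply A' B' L']
  have hB0 : ∀ b : VA C.LL, algebraMap C.LL L' (b : C.LL) = algebraMap B' L' (algebraMap (VA C.LL) B' b) := fun b => by
    rw [← IsScalarTower.algebraMap_apply (VA C.LL) B' L']
    exact (IsScalarTower.algebraMap_apply (VA C.LL) C.LL L' b).symm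
  have hA0 : ∀ a : VA C.K, algebraMap C.K K' (a : C.K) = algebraMap A' K' (algebraMap (VA C.K) A' a) := fun a => by
    rw [← IsScalarTower.algebraMap_apply (VA C.K) A' K']
    exact (IsScalarTower.algebraMap_apply (VA C.K) C.K K' a).symm
  have hcomm : (algebraMap K' L').comp (algebraMap C.K K') =
      (algebraMap C.LL L').comp (Subfield.inclusion (K_le_LL C)) := by
    refine IsLocalization.ringHom_ext (nonZeroDivisors (VA C.K)) ?_
    ext a
    show algebraMap K' L' (algebraMap C.K K' (a : C.K)) =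
      algebraMap C.LL L' (Subfield.inclusion (K_le_LL C) (a : C.K))
    rw [hA0, hA', ← IsScalarTower.algebraMap_apply (VA C.K) A' B',
      IsScalarTower.algebraMap_apply (VA C.K) (VA C.LL) B', ← hB0]
    congr 1
    exact Subtype.ext (hAB a)
  have hL : (algebraMap C.LL L').toAlgebra = ‹Algebra C.LL L'› := Algebra.algebra_ext _ _ fun _ => rfl
  refine K361.RefN17a.main C (fun x hx => K416.RefN2.N2b_monic C hx)
    (fun K' L' h1 h2 h3 h4 ϖ h5 h6 => K235.RefN15.N15_normal C h1 h2 h3 h4 h5 h6)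
    (fun K' h1 h2 => K235.RefN16.N16_FF_le C h1 h2)
    (A' := A') (B' := B') (K' := K') (L' := L') (algebraMap C.LL L') (algebraMap C.K K')
    (fun x => RingHom.congr_fun hcomm x) ?_ ?_ ?_ ?_ ?_ hsc
  · intro x
    rw [hL]
    exact hsepL.isSeparable' x
  · intro x hx
    exact ⟨algebraMap (VA C.LL) B' ⟨x, hx⟩, (hB0 ⟨x, hx⟩).symm⟩
  · intro x hx
    exact ⟨algebraMap (VA C.K) A' ⟨x, hx⟩, (hA0 ⟨x, hx⟩).symm⟩
  · intro a
    exact ⟨algebraMap A' B' a, (hA' a).symm⟩
  · intro a ha
    refine ⟨algebraMap A' B' a, ?_, (hA' a).symm⟩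
    rw [mem_maximalIdeal, mem_nonunits_iff] at ha ⊢
    exact fun h => ha (isUnit_of_map_unit (algebraMap A' B') _ h)

/-- **S7162 is false as written** (second proof); `Stmt` is the frozen statement at universe level 0. -/
theorem refuted : ¬ Stmt.{0} := by
  obtain ⟨Ω, _, _, _, _, ⟨C⟩⟩ := K373.RefN1.N1_ctx
  have hKL : C.K ≤ C.LL := K_le_LL C
  have dA : IsDiscreteValuationRing (VA C.K) := (isDVR_of_disc C.t_mem C.disc).1
  obtain ⟨ϖ, hϖ, hdϖ⟩ := K235.RefN18.N18_disc C
  have dB : IsDiscreteValuationRing (VA C.LL) := (isDVR_of_disc hϖ hdϖ).1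
  let aAB : Algebra (VA C.K) (VA C.LL) := (EppUp.inc hKL).toAlgebra
  have hinj : Function.Injective (algebraMap (VA C.K) (VA C.LL)) := by
    intro x y h
    have h1 := congrArg (fun u : VA C.LL => ((u : C.LL) : Ω)) h
    exact Subtype.ext (Subtype.ext h1)
  have hloc : IsLocalHom (algebraMap (VA C.K) (VA C.LL)) := EppUp.isLocalHom_inc hKL
  let aKL : Algebra C.K C.LL := (Subfield.inclusion hKL).toAlgebra
  let aAL : Algebra (VA C.K) C.LL := ((algebraMap C.K C.LL).comp (algebraMap (VA C.K) C.K)).toAlgebra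
  have t1 : IsScalarTower (VA C.K) C.K C.LL := IsScalarTower.of_algebraMap_eq fun _ => rfl
  have t2 : IsScalarTower (VA C.K) (VA C.LL) C.LL := IsScalarTower.of_algebraMap_eq fun _ => rfl
  refine not_stmt (VA C.K) (VA C.LL) C.K C.LL hinj ?_ ?_
  · intro A' B' K' L' _ _ _ _ _ _ _ _ _ _ _ _ _ _ _ _ _ _ _ _ _ _ _ _ _ _ _ _ _ _ _ _ _ _ _ _ _ hsepL hscA _
    exact exists_weak C (fun _ => rfl) A' B' K' L' hsepL hscA.sep_closed
  · intro K₁ _ _ _ hw
    obtain ⟨E, ϖ', hE, hEf, hϖ', h1, h2⟩ := K861.RefN14.N14_weak C hw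
    exact _root_.K289.RefN13.N13_main C hE hEf hϖ' h1 h2

end Groth.Agent.EtAlg.K405.Refute
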